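import Cfsg.Agent.Lib.ZNGroup.Connected
import Cfsg.Agent.Lib.Fusion.PrimeCoreQuotient
import Cfsg.Agent.Lib.CIT.Main
import Cfsg.Agent.S0205

/-!
# Two-nilpotent centralizers of involutions: basic facts
-/

set_option autoImplicit false
set_option linter.style.haveILetI false

open Subgroup

namespace CfsgLib.TwoNilp

universe u

variable {G : Type u} [Group G] [Finite G]

/-- Every involution has a two-nilpotent centralizer. -/
def Nilp (G : Type u) [Group G] : Prop :=
  ∀ t : G, orderOf t = 2 → Cfsg.HasNormalPComplement 2 ↥(centralizer ({t} : Set G))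

/-- A normal complement of a Sylow two-subgroup has odd order. -/
theorem odd_card_of_isComplement {C : Type u} [Group C] [Finite C] {N : Subgroup C} {P : Sylow 2 C}
    (h : N.IsComplement' (P : Subgroup C)) : Odd (Nat.card N) := by
  haveI : Fact (Nat.Prime 2) := ⟨Nat.prime_two⟩
  have h1 : Nat.card N * Nat.card (P : Subgroup C) = (P : Subgroup C).index * Nat.card (P : Subgroup C) := by
    rw [h.card_mul, Subgroup.index_mul_card]
  rw [Nat.eq_of_mul_eq_mul_right Nat.card_pos h1, Nat.odd_iff]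
  exact Nat.two_dvd_ne_zero.1 P.not_dvd_index

/-- A two-nilpotent group is soluble. -/
theorem isSolvable_of_complement {C : Type u} [Group C] [Finite C]
    (h : Cfsg.HasNormalPComplement 2 C) : Group.IsSolvable C := by
  haveI : Fact (Nat.Prime 2) := ⟨Nat.prime_two⟩
  obtain ⟨P, N, hN, hc⟩ := h
  haveI := hN
  haveI : Group.IsSolvable ↥N := Cfsg.Agent.S0205.result (odd_card_of_isComplement hc)
  haveI : Group.IsSolvable (C ⧸ N) := by
    obtain ⟨n, hn⟩ := P.isPGroup'.exists_card_eq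
    have h1 : Nat.card (C ⧸ N) = 2 ^ n := by
      have h2 := N.index_mul_card
      rw [← index_eq_card, ← hn]
      rw [← hc.card_mul, mul_comm (Nat.card N)] at h2
      exact Nat.eq_of_mul_eq_mul_right Nat.card_pos h2
    haveI := (IsPGroup.of_card h1).isNilpotent
    infer_instance
  exact solvable_of_ker_le_range N.subtype (QuotientGroup.mk' N)
    (by rw [QuotientGroup.ker_mk', Subgroup.range_subtype])

theorem isSolvable_centralizer (hI : Nilp G) {t : G} (ht : orderOf t = 2) :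
    Group.IsSolvable ↥(centralizer ({t} : Set G)) :=
  isSolvable_of_complement (hI t ht)

theorem not_componentType (hI : Nilp G) : ¬ Cfsg.IsComponentType G := by
  rintro ⟨t, ht, K, -, hperf, hsimp⟩
  haveI := isSolvable_centralizer hI ht
  haveI : Group.IsSolvable (↥(centralizer ({t} : Set G)) ⧸ Cfsg.oddCore ↥(centralizer ({t} : Set G))) :=
    Group.isSolvable_of_surjective (QuotientGroup.mk'_surjective _)
  haveI := hsimp
  haveI : Nontrivial ↥K := by
    obtain ⟨q, r, hqr⟩ := (inferInstance : Nontrivial (↥K ⧸ center ↥K))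
    obtain ⟨a, rfl⟩ := QuotientGroup.mk_surjective q
    obtain ⟨b, rfl⟩ := QuotientGroup.mk_surjective r
    exact ⟨⟨a, b, fun hab => hqr (by rw [hab])⟩⟩
  haveI : Group.IsSolvable ↥K := inferInstance
  have h := Group.IsSolvable.commutator_lt_top_of_nontrivial (G := ↥K)
  rw [hperf.commutator_eq_top] at h
  exact lt_irrefl _ h

/-- An element of two-power order and of odd order is trivial. -/
theorem eq_one_of_mem {T : Subgroup G} (hT : IsPGroup 2 T) {x : G} (hx : x ∈ T) (hodd : Odd (orderOf x)) :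
    x = 1 := by
  obtain ⟨k, hk⟩ := hT ⟨x, hx⟩
  exact CfsgLib.Invol.eq_one_of_odd_of_pow_two hodd (congrArg Subtype.val hk)

/-- The central involution of a Sylow subgroup bounds the two-centralizers. -/
theorem centralBound (hI : Nilp G) (R : Sylow 2 G) {z : G} (hz : orderOf z = 2) (hzR : z ∈ (R : Subgroup G))
    (hzc : ∀ r ∈ (R : Subgroup G), r * z = z * r) (h2 : ∀ M : Subgroup G, M.Normal → M.index ≠ 2) :
    CfsgLib.ZNGroup.CentralBound R z := by
  haveI : Fact (Nat.Prime 2) := ⟨Nat.prime_two⟩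
  refine ⟨hz, hzR, hzc, h2, ?_⟩
  intro t htR T hT hTzt
  set C := centralizer ({z} : Set G) with hC
  have hRC : (R : Subgroup G) ≤ C := fun r hr => mem_centralizer_singleton_iff.2 (hzc r hr)
  set R' := R.subtype hRC with hR'
  have hcompl := (CfsgLib.Fusion.hasNormalPComplement_iff_forall_sylow).mp (hI z hz) R'
  set N : Subgroup ↥C := Cfsg.pResidual 2 ↥C with hN
  haveI : N.Normal := CfsgLib.Fusion.pResidual_normal
  have hNodd : Odd (Nat.card N) := odd_card_of_isComplement hcompl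
  have hNR : ∀ n ∈ N, (n : G) ∈ (R : Subgroup G) → n = 1 := fun n hn hnR =>
    mem_bot.1 (hcompl.disjoint.le_bot ⟨hn, hnR⟩)
  have hdec : ∀ x : ↥C, ∃ s : ↥C, (s : G) ∈ (R : Subgroup G) ∧ x * s⁻¹ ∈ N := by
    intro x
    obtain ⟨n, hn, s, hs, rfl⟩ := mem_sup_of_normal_left.1 (hcompl.sup_eq_top ▸ mem_top x)
    exact ⟨s, hs, by rwa [mul_inv_cancel_right]⟩
  choose σ hσR hσN using hdec
  have htC : t ∈ C := hRC htR
  have hTC : ∀ x : T, (x : G) ∈ C := fun x => mem_centralizer_singleton_iff.2 (hTzt x x.2).1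
  refine Nat.card_le_card_of_injective
    (fun x : T => (⟨(σ ⟨x, hTC x⟩ : G), ⟨hσR _, mem_centralizer_singleton_iff.2 ?_⟩⟩ :
      ↥((R : Subgroup G) ⊓ centralizer ({t} : Set G)))) ?_
  · -- the component in `R` commutes with `t`
    set x' : ↥C := ⟨x, hTC x⟩
    set t' : ↥C := ⟨t, htC⟩
    have hxt : x' * t' = t' * x' := Subtype.ext (hTzt x x.2).2
    set s := σ x'
    set n := x' * s⁻¹ with hn
    have hmem : s * t' * s⁻¹ * t'⁻¹ ∈ N := by
      have e : s * t' * s⁻¹ * t'⁻¹ = n⁻¹ * (t' * n * t'⁻¹) := by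
        have es : s = n⁻¹ * x' := by rw [hn]; group
        rw [es]
        calc n⁻¹ * x' * t' * (n⁻¹ * x')⁻¹ * t'⁻¹ = n⁻¹ * (x' * t') * x'⁻¹ * n * t'⁻¹ := by group
          _ = n⁻¹ * (t' * n * t'⁻¹) := by rw [hxt]; group
      rw [e]
      exact mul_mem (inv_mem (hσN x')) (Subgroup.Normal.conj_mem inferInstance n (hσN x') t')
    have h1 := hNR _ hmem (mul_mem (mul_mem (mul_mem (hσR x') htR) (inv_mem (hσR x'))) (inv_mem htR))
    have h3 : s * t' = t' * s := mul_inv_eq_iff_eq_mul.1 (mul_inv_eq_one.1 h1)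
    exact congrArg Subtype.val h3
  · intro x y hxy
    have hs : σ ⟨x, hTC x⟩ = σ ⟨y, hTC y⟩ := Subtype.ext (congrArg (fun w : ↥((R : Subgroup G) ⊓ centralizer ({t} : Set G)) => (w : G)) hxy)
    have hxy' : (⟨x, hTC x⟩ : ↥C) * (⟨y, hTC y⟩ : ↥C)⁻¹ ∈ N := by
      have := mul_mem (hσN ⟨x, hTC x⟩) (inv_mem (hσN ⟨y, hTC y⟩))
      rwa [hs, mul_inv_rev, inv_inv, ← mul_assoc, inv_mul_cancel_right] at this
    have hd := Subgroup.orderOf_dvd_natCard N hxy'
    rw [← Subgroup.orderOf_coe] at hd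
    have h1 := eq_one_of_mem hT (mul_mem x.2 (inv_mem y.2)) (hNodd.of_dvd_nat hd)
    exact Subtype.ext (mul_inv_eq_one.1 h1)

end CfsgLib.TwoNilp
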