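import Cfsg.Agent.Lib.CIT.TwoNilp.Basic
import Cfsg.Agent.Lib.OddConseq.TwoGenCoreEmbedded
import Cfsg.Agent.Lib.Classical.ProjLine
import Cfsg.Agent.Lib.Invol.AltEightSubgroups
import Cfsg.Agent.S1221

/-!
# Two-nilpotent centralizers of involutions in rank at least three: the centralizers are two-groups

The four groups of a Sylow subgroup are connected, so the cores of the centralizers are trivial and the
classification of simple CIT groups applies.
-/

set_option autoImplicit false
set_option linter.style.haveILetI false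

open Subgroup

namespace CfsgLib.TwoNilp

universe u

variable {G : Type u} [Group G] [Finite G]

theorem oddCore_eq_bot [IsSimpleGroup G] (hG : ¬ IsMulCommutative G) : Cfsg.oddCore G = ⊥ := by
  haveI : (Cfsg.oddCore G).Normal := by
    haveI := CfsgLib.Coprime.pPrimeCore_characteristic (G := G) 2
    exact (inferInstance : (Cfsg.pPrimeCore 2 G).Normal)
  rcases (inferInstance : (Cfsg.oddCore G).Normal).eq_bot_or_eq_top with h | h
  · exact h
  · exfalso
    have h1 := CfsgLib.Coprime.pPrimeCore_coprime (G := G) Nat.prime_two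
    rw [show Cfsg.pPrimeCore 2 G = ⊤ from h, card_top] at h1
    haveI := Cfsg.Agent.S0205.result (G := G) (Nat.coprime_two_right.1 h1)
    exact hG ⟨⟨IsSimpleGroup.comm_iff_isSolvable.2 inferInstance⟩⟩

/-- A central involution of a Sylow two-subgroup of a group of even order. -/
theorem exists_central_invol (S : Sylow 2 G) (h2 : 2 ∣ Nat.card G) :
    ∃ z ∈ (S : Subgroup G), orderOf z = 2 ∧ ∀ s ∈ (S : Subgroup G), s * z = z * s := by
  haveI : Fact (Nat.Prime 2) := ⟨Nat.prime_two⟩
  have hSne : (S : Subgroup G) ≠ ⊥ := S.ne_bot_of_dvd_card h2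
  haveI : Nontrivial ↥(S : Subgroup G) := (Subgroup.nontrivial_iff_ne_bot _).2 hSne
  haveI := S.isPGroup'.center_nontrivial
  obtain ⟨k, hk⟩ := (S.isPGroup'.to_subgroup (center ↥(S : Subgroup G))).exists_card_eq
  have hk0 : k ≠ 0 := fun h => by
    have := Finite.one_lt_card (α := center ↥(S : Subgroup G))
    rw [hk, h] at this; norm_num at this
  obtain ⟨x, hx⟩ := exists_prime_orderOf_dvd_card' 2 (hk ▸ dvd_pow_self 2 hk0 :
    2 ∣ Nat.card (center ↥(S : Subgroup G)))
  refine ⟨((x : ↥(S : Subgroup G)) : G), (x : ↥(S : Subgroup G)).2, ?_, fun s hs => ?_⟩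
  · rwa [Subgroup.orderOf_coe, Subgroup.orderOf_coe]
  · exact congrArg Subtype.val (mem_center_iff.1 x.2 ⟨s, hs⟩)

/-- **In rank at least three the group is CIT.** -/
theorem isCIT_of_rank [IsSimpleGroup G] (hG : ¬ IsMulCommutative G) (hI : Nilp G)
    (hrank : ¬ Cfsg.PRankLE 2 2 G) : CfsgLib.CIT.IsCIT G := by
  haveI : Fact (Nat.Prime 2) := ⟨Nat.prime_two⟩
  obtain ⟨S⟩ : Nonempty (Sylow 2 G) := inferInstance
  obtain ⟨z, hzS, hz, hzc⟩ := exists_central_invol S (CfsgLib.CIT.two_dvd_card_of_simple hG)
  have hS := (centralBound hI S hz hzS hzc (CfsgLib.CIT.index_ne_two_of_simple hG)).isFourConnected hrank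
  intro t y ht hy hyt
  have hθ := CfsgLib.TwoGenCore.theta_eq_bot (fun {X} _ _ h => Cfsg.Agent.S0205.result h)
    (CfsgLib.TwoGenCore.isBalanced_of_not_componentType (not_componentType hI))
    (fun K hK => Cfsg.Agent.S1221.result K hK) hrank (oddCore_eq_bot hG) (not_componentType hI) S hS t ht
  set C := centralizer ({t} : Set G) with hC
  obtain ⟨P, N, hN, hc⟩ := hI t ht
  haveI := hN
  have hNbot : N = ⊥ := by
    refine (Subgroup.map_eq_bot_iff_of_injective _ C.subtype_injective).1 (le_bot_iff.1 ?_)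
    rw [← hθ]
    exact map_mono (CfsgLib.Coprime.le_pPrimeCore_of_not_dvd Nat.prime_two
      (Nat.two_dvd_ne_zero.2 (Nat.odd_iff.1 (odd_card_of_isComplement hc))))
  have hP : (P : Subgroup ↥C) = ⊤ := by
    have := hc.sup_eq_top
    rwa [hNbot, bot_sup_eq] at this
  exact eq_one_of_mem (T := (P : Subgroup ↥C).map C.subtype) (P.isPGroup'.map _)
    ⟨⟨y, mem_centralizer_singleton_iff.2 hyt⟩, hP ▸ mem_top _, rfl⟩ hy

/-- The field of a simple projective special linear group of dimension two has more than three elements. -/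
theorem three_lt_of_simple_psl {F : Type} [Field F] [Fintype F] [IsSimpleGroup G] (hG : ¬ IsMulCommutative G)
    (e : G ≃* Matrix.ProjectiveSpecialLinearGroup (Fin 2) F) : 3 < Fintype.card F := by
  by_contra hle
  have h2 := Fintype.one_lt_card (α := F)
  have h1 := CfsgLib.Classical.card_psl2 (F := F)
  rw [← Nat.card_congr e.toEquiv] at h1
  have h60 := CfsgLib.Invol.AltEightSubgroups.sixty_le (H := G) fun h =>
    hG ⟨⟨IsSimpleGroup.comm_iff_isSolvable.2 h⟩⟩
  interval_cases hq : Fintype.card F <;> norm_num at h1 <;> omega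

end CfsgLib.TwoNilp
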