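import Cfsg.Agent.Lib.CIT.TwoNilp.RankThree
import Cfsg.Agent.Lib.CIT.TwoNilp.UFour.Main
import Cfsg.Agent.Lib.GW.QGroupRows
import Cfsg.Agent.Lib.GW.Final
import Cfsg.Agent.Lib.Classical.SL2Sylow
import Cfsg.Agent.S0483
import Cfsg.Agent.S0516

/-!
# Two-nilpotent centralizers of involutions in two-rank at most two
-/

set_option autoImplicit false
set_option linter.style.haveILetI false

open Subgroup

namespace CfsgLib.TwoNilp

universe u

variable {G : Type u} [Group G] [Finite G]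

theorem three_dvd_card_sl2 {F : Type} [Field F] [Fintype F] :
    3 ∣ Nat.card (Matrix.SpecialLinearGroup (Fin 2) F) := by
  rw [CfsgLib.Classical.card_sl2]
  have h := Fintype.one_lt_card (α := F)
  obtain ⟨k, hk⟩ : ∃ k, Fintype.card F = k + 1 := ⟨Fintype.card F - 1, by omega⟩
  rw [hk, Nat.add_sub_cancel]
  rcases (show k % 3 = 0 ∨ k % 3 = 1 ∨ k % 3 = 2 by omega) with e | e | e
  · exact Dvd.dvd.mul_left (Dvd.dvd.mul_right (Nat.dvd_of_mod_eq_zero e) _) _
  · exact Dvd.dvd.mul_left (Dvd.dvd.mul_left (Nat.dvd_of_mod_eq_zero (by omega)) _) _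
  · exact Dvd.dvd.mul_right (Nat.dvd_of_mod_eq_zero (by omega)) _

/-- Quasidihedral and wreathed Sylow subgroups do not occur. -/
theorem false_of_qd_wreathed [IsSimpleGroup G] (hG : ¬ IsMulCommutative G) (hI : Nilp G) (S : Sylow 2 G)
    (hS : Cfsg.IsQuasiDihedral (S : Subgroup G) ∨ Cfsg.IsWreathed (S : Subgroup G)) : False := by
  haveI : Fact (Nat.Prime 2) := ⟨Nat.prime_two⟩
  have hH : ∀ H : Subgroup G, H.index ≠ 2 := fun H h2 =>
    CfsgLib.CIT.index_ne_two_of_simple hG H (Subgroup.normal_of_index_eq_two h2) h2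
  obtain ⟨t, ht⟩ := exists_prime_orderOf_dvd_card' (G := G) 2 (CfsgLib.CIT.two_dvd_card_of_simple hG)
  obtain ⟨F, iF, iF', -, ⟨e⟩⟩ := CfsgLib.GW.centralizer_mod_core S hS hH t ht (CfsgLib.GW.gwBelow _)
  set C := centralizer ({t} : Set G)
  obtain ⟨P, N, hN, hc⟩ := hI t ht
  haveI := hN
  have hle : N ≤ Cfsg.oddCore ↥C := CfsgLib.Coprime.le_pPrimeCore_of_not_dvd Nat.prime_two
    (Nat.two_dvd_ne_zero.2 (Nat.odd_iff.1 (odd_card_of_isComplement hc)))
  obtain ⟨n, hn⟩ := P.isPGroup'.exists_card_eq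
  have h1 : (Cfsg.oddCore ↥C).index ∣ 2 ^ n := by
    refine (index_dvd_of_le hle).trans (dvd_of_eq ?_)
    have h2 := N.index_mul_card
    rw [← hn]
    rw [← hc.card_mul, mul_comm (Nat.card N)] at h2
    exact Nat.eq_of_mul_eq_mul_right Nat.card_pos h2
  have h3 : 3 ∣ 2 ^ n := by
    refine (three_dvd_card_sl2 (F := F)).trans ?_
    rw [← Nat.card_congr e.toEquiv]
    exact (card_subgroup_dvd_card _).trans h1
  exact absurd (Nat.prime_three.dvd_of_dvd_pow h3) (by norm_num)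

/-- **Two-rank at most two.** -/
theorem cases_of_rank_two [IsSimpleGroup G] (hG : ¬ IsMulCommutative G) (hI : Nilp G)
    (h2 : Cfsg.PRankLE 2 2 G) :
    (∃ (F : Type) (_ : Field F) (_ : Fintype F), 3 < Fintype.card F ∧
        Nonempty (G ≃* Matrix.ProjectiveSpecialLinearGroup (Fin 2) F)) ∨
      Nonempty (G ≃* ↥(alternatingGroup (Fin 7))) := by
  haveI : Fact (Nat.Prime 2) := ⟨Nat.prime_two⟩
  obtain ⟨S⟩ : Nonempty (Sylow 2 G) := inferInstance
  haveI : Fintype (GaloisField 2 4) := Fintype.ofFinite _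
  have hF : Fintype.card (GaloisField 2 4) = 16 := by
    rw [← Nat.card_eq_fintype_card, GaloisField.card 2 4 (by norm_num)]
    norm_num
  obtain ⟨P⟩ : Nonempty (Sylow 2 (Cfsg.PSU 3 (GaloisField 2 4) 4)) := inferInstance
  rcases Cfsg.Agent.S0516.result hG h2 S hF P with ⟨n, hn, hS⟩ | h | h | he
  · haveI : Group.IsPerfect G := ⟨by
      rcases (inferInstance : (commutator G).Normal).eq_bot_or_eq_top with h | h
      · exact absurd ⟨⟨fun a b => commutatorElement_eq_one_iff_mul_comm.1 (mem_bot.1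
          (h ▸ commutator_mem_commutator (mem_top a) (mem_top b)))⟩⟩ hG
      · exact h⟩
    have hO := oddCore_eq_bot hG
    let ε : G ⧸ Cfsg.oddCore G ≃* G :=
      (QuotientGroup.quotientMulEquivOfEq hO).trans QuotientGroup.quotientBot
    rcases Cfsg.Agent.S0483.result S n hn hS with ⟨F, iF, iF', -, h3, ⟨e⟩⟩ | ⟨⟨e⟩⟩
    · exact Or.inl ⟨F, iF, iF', h3, ⟨ε.symm.trans e⟩⟩
    · exact Or.inr ⟨ε.symm.trans e⟩
  · exact (false_of_qd_wreathed hG hI S (Or.inl h)).elim
  · exact (false_of_qd_wreathed hG hI S (Or.inr h)).elim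
  · obtain ⟨e⟩ := he
    exact (false_of_uFour hG hI S _ (uFour_of_mulEquiv hF P S e)).elim

end CfsgLib.TwoNilp
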